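import Mathlib
import Cfsg.Agent.H954.OutDeg

/-!
# TEAM TWOCYC (S3507): interface (helper384)

`S3507`: a primitive group `G` with an element `g` with exactly two cycles has rank at most `3`.

* `Two g` : `g` has exactly two cycles;
* `rk G Ω` : the rank (orbits of `G` on `Ω × Ω`);
* `TC G Ω T g` : `G` is primitive and almost simple with socle `T`, `g` has two cycles;
* `Mo T m` : all automorphisms of `T` have order at most `m`;
* `Sm T` : some `m` with `Mo T m` and all proper subgroups of `T` have index `> 2 m`;
* `SmC T` : some `m`, `δ` with `Mo T m`, all non-linear irreducible characters of `T` have degree `≥ δ`, `2 m ≤ 3 δ`;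
* `Ord T` : some `m` with `Mo T m` and `2 m ^ 2 < |T|` (all `T` except `A₅`);
* `Row3 P` : the theorem for the almost simple groups whose socle satisfies `P`.
-/

set_option autoImplicit false

namespace Cfsg.Agent.H384.Cyc

open MulAction

universe u v

/-- `g` has exactly two cycles on `Ω` -/
def Two {G : Type u} (Ω : Type v) [Group G] [MulAction G Ω] (g : G) : Prop :=
  Nat.card (orbitRel.Quotient (Subgroup.zpowers g) Ω) = 2

/-- the rank -/
noncomputable def rk (G : Type u) (Ω : Type v) [Group G] [MulAction G Ω] : ℕ :=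
  Nat.card (orbitRel.Quotient G (Ω × Ω))

/-- The almost simple situation: `G` is finite, faithful and primitive on `Ω`, `T` is a non-abelian simple normal
subgroup with trivial centralizer, and `g` has exactly two cycles. -/
structure TC (G : Type u) (Ω : Type v) [Group G] [MulAction G Ω] (T : Subgroup G) (g : G) : Prop where
  finG : Finite G
  finΩ : Finite Ω
  faithful : FaithfulSMul G Ω
  prim : IsPreprimitive G Ω
  norm : T.Normal
  simple : IsSimpleGroup ↥T
  nonab : ¬ IsMulCommutative ↥T
  cent : Subgroup.centralizer (T : Set G) = ⊥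
  two : Two Ω g

/-- all automorphisms have order at most `m` -/
def Mo (T : Type u) [Group T] (m : ℕ) : Prop := ∀ α : MulAut T, orderOf α ≤ m

/-- proper subgroups have index bigger than twice the order of every automorphism -/
def Sm (T : Type u) [Group T] : Prop := ∃ m, Mo T m ∧ ∀ H : Subgroup T, H ≠ ⊤ → 2 * m < H.index

/-- non-linear irreducible characters have degree at least `2/3` of the order of every automorphism -/
def SmC (T : Type u) [Group T] : Prop := ∃ m δ, Mo T m ∧ H954.OutDeg.MD T δ ∧ 2 * m ≤ 3 * δ

/-- automorphisms have small order -/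
def Ord (T : Type u) [Group T] : Prop := ∃ m, Mo T m ∧ 2 * m ^ 2 < Nat.card T

/-- the theorem for the socles with property `P` -/
def Row3 (P : ∀ (T : Type u) [Group T], Prop) : Prop :=
  ∀ (G : Type u) (Ω : Type v) [Group G] [MulAction G Ω] (T : Subgroup G) (g : G), TC G Ω T g → P ↥T → rk G Ω ≤ 3

theorem Mo.congr {T : Type u} {S : Type v} [Group T] [Group S] {m : ℕ} (h : Mo T m) (e : T ≃* S) : Mo S m := by
  intro α
  have h1 := h ((MulAut.congr e).symm α)
  rwa [MulEquiv.orderOf_eq] at h1

theorem Sm.congr {T : Type u} {S : Type v} [Group T] [Group S] (h : Sm T) (e : T ≃* S) : Sm S := by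
  obtain ⟨m, h1, h2⟩ := h
  refine ⟨m, h1.congr e, fun H hH => ?_⟩
  have h3 := h2 (H.comap e.toMonoidHom) (fun h => hH ?_)
  · rwa [Subgroup.index_comap_of_surjective _ e.surjective] at h3
  · rw [eq_top_iff]
    intro x _
    obtain ⟨y, rfl⟩ := e.surjective x
    exact (show y ∈ H.comap e.toMonoidHom by rw [h]; trivial)

theorem SmC.congr {T : Type u} {S : Type v} [Group T] [Group S] (h : SmC T) (e : T ≃* S) : SmC S := by
  obtain ⟨m, δ, h1, h2, h3⟩ := h
  exact ⟨m, δ, h1.congr e, h2.congr e, h3⟩

theorem Ord.congr {T : Type u} {S : Type v} [Group T] [Group S] (h : Ord T) (e : T ≃* S) : Ord S := by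
  obtain ⟨m, h1, h2⟩ := h
  exact ⟨m, h1.congr e, by rwa [← Nat.card_congr e.toEquiv]⟩

end Cfsg.Agent.H384.Cyc
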