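import Cfsg.Agent.H384.Cyc.Defs
import Cfsg.Agent.H933.BigKnown

/-!
# TEAM TWOCYC (S3507): `Sm T → Ord T` (helper384)
-/

set_option autoImplicit false

namespace Cfsg.Agent.H384.Cyc

open Cfsg

universe u

theorem ord_of_sm {T : Type u} [Group T] (hna : ¬ IsMulCommutative T) (hT : IsKnownSimple' T) (h : Sm T) : Ord T := by
  obtain ⟨m, h1, h2⟩ := h
  obtain ⟨H, hH, h3⟩ := Cfsg.Agent.H933.big_known hna hT
  refine ⟨m, h1, ?_⟩
  have h4 := h2 H hH
  nlinarith [h4, h3]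

end Cfsg.Agent.H384.Cyc
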