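import Cfsg.Agent.H384.Cyc.Frame
import Cfsg.Agent.H384.Cyc.OrdSm
import Cfsg.Agent.H482.TwoCyc.Row

/-!
# TEAM TWOCYC (S3507): families (helper384)
-/

set_option autoImplicit false

namespace Cfsg.Agent.H384.Cyc

open Cfsg

universe u v

theorem Ord.of_equiv {T : Type u} {S : Type v} [Group T] [Group S] (h : Ord S) (e : T ≃* S) : Ord T := h.congr e.symm

/-- families with `Sm` -/
theorem Fam.of_sm {P : ∀ (T : Type u) [Group T], Prop}
    (hS : ∀ (X : Type u) [Group X] [Finite X] [IsSimpleGroup X], IsKnownSimple' X)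
    (h : ∀ (T : Type u) [Group T] [Finite T] [IsSimpleGroup T], ¬ IsMulCommutative T → P T → Sm T) : Fam.{u, v} P where
  row := fun G Ω _ _ T g hT hP => by
    have := hT.finG
    have := hT.simple
    exact H482.TwoCyc.row_sm G Ω T g hT (h ↥T hT.nonab hP)
  ord := fun T _ _ _ hna hP => Or.inl (ord_of_sm hna (hS T) (h T hna hP))

/-- families with `SmC` -/
theorem Fam.of_smC {P : ∀ (T : Type u) [Group T], Prop}
    (h : ∀ (T : Type u) [Group T] [Finite T] [IsSimpleGroup T], ¬ IsMulCommutative T → P T → SmC T)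
    (h' : ∀ (T : Type u) [Group T] [Finite T] [IsSimpleGroup T], ¬ IsMulCommutative T → P T → Ord T) : Fam.{u, v} P where
  row := fun G Ω _ _ T g hT hP => by
    have := hT.finG
    have := hT.simple
    exact H482.TwoCyc.row_smC G Ω T g hT (h ↥T hT.nonab hP)
  ord := fun T _ _ _ hna hP => Or.inl (h' T hna hP)

theorem Fam.or {P Q : ∀ (T : Type u) [Group T], Prop} (hP : Fam.{u, v} P) (hQ : Fam.{u, v} Q) :
    Fam.{u, v} fun T _ => P T ∨ Q T where
  row := fun G Ω _ _ T g hT h => h.elim (hP.row G Ω T g hT) (hQ.row G Ω T g hT)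
  ord := fun T _ _ _ hna h => h.elim (hP.ord T hna) (hQ.ord T hna)

theorem Fam.mono {P Q : ∀ (T : Type u) [Group T], Prop} (hQ : Fam.{u, v} Q)
    (h : ∀ (T : Type u) [Group T] [Finite T] [IsSimpleGroup T], ¬ IsMulCommutative T → P T → Q T) : Fam.{u, v} P where
  row := fun G Ω _ _ T g hT hP => by
    have := hT.finG
    have := hT.simple
    exact hQ.row G Ω T g hT (h ↥T hT.nonab hP)
  ord := fun T _ _ _ hna hP => hQ.ord T hna (h T hna hP)

end Cfsg.Agent.H384.Cyc
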