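import Cfsg.Agent.H384.Cyc.FamBase
import Cfsg.Agent.H332.Cyc.G2Three
import Cfsg.Agent.H332.Cyc.G2Ord
import Cfsg.Agent.H501.TwoCyc.Rows
import Cfsg.Agent.H872.TD4.Row
import Cfsg.Agent.H753.CycRows
import Cfsg.Agent.H242.TwoCyc.TwF
import Cfsg.Agent.H242.TwoCyc.Tits

/-!
# TEAM TWOCYC (S3507): the exceptional groups of Lie type (helper384)

Rows by helper332 (G2), helper501 (E6, E7, E8), helper872 (3D4), helper753 (Sz, Ree), helper242 (2F4, Tits),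
helper363 (F4, 2E6), engine by helper482.
-/

set_option autoImplicit false

namespace Cfsg.Agent.H384.Cyc

open Cfsg

universe u v

theorem fam_exc (hS : ∀ (X : Type u) [Group X] [Finite X] [IsSimpleGroup X], IsKnownSimple' X)
    (hF4 : Fam.{u, v} fun T _ => Lie.IsoF4 T) (hE6 : Fam.{u, v} fun T _ => Lie.Iso2E6 T)
    (hD4 : ∀ (T : Type u) [Group T], Lie.Iso3D4 T → Ord T) : Fam.{u, v} fun T _ => IsExceptionalLieType T := by
  have hG2 : Fam.{u, v} fun T _ => Lie.IsoChevG2 T :=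
    ⟨H332.Cyc.row_g2, fun T _ _ _ _ ⟨F, _, _, hF, ⟨e⟩⟩ => Or.inl (H332.Cyc.ord_of_g2 hF e)⟩
  have hE6' : Fam.{u, v} fun T _ => Lie.IsoChevE6 T := Fam.of_sm hS fun T _ _ _ _ h => H501.TwoCyc.Rows.sm_isoE6 h
  have hE7 : Fam.{u, v} fun T _ => Lie.IsoE7 T := Fam.of_sm hS fun T _ _ _ _ h => H501.TwoCyc.Rows.sm_isoE7 h
  have hE8 : Fam.{u, v} fun T _ => Lie.IsoE8 T := Fam.of_sm hS fun T _ _ _ _ h => H501.TwoCyc.Rows.sm_isoE8 h
  have hD4' : Fam.{u, v} fun T _ => Lie.Iso3D4 T :=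
    ⟨H872.TD4.row_3D4, fun T _ _ _ _ h => Or.inl (hD4 T h)⟩
  have hSz : Fam.{u, v} fun T _ => Lie.IsoSuzuki T :=
    ⟨H753.Cyc.row_sz, fun T _ _ _ _ h => Or.inl (H753.Cyc.ord_sz h)⟩
  have hRee : Fam.{u, v} fun T _ => Lie.IsoRee T :=
    ⟨H753.Cyc.row_ree, fun T _ _ _ _ h => Or.inl (H753.Cyc.ord_ree h)⟩
  have hTF : Fam.{u, v} fun T _ => Lie.Iso2F4 T := Fam.of_sm hS fun T _ _ _ _ h => H242.TwoCyc.TwF.sm h
  have hT : Fam.{u, v} fun T _ => Lie.IsoTits T := Fam.of_sm hS fun T _ _ _ _ h => H242.TwoCyc.Tits.sm_tits h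
  exact hG2.or (hF4.or (hE6'.or (hE7.or (hE8.or (hE6.or (hD4'.or (hSz.or (hRee.or (hTF.or hT)))))))))

end Cfsg.Agent.H384.Cyc
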