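import Cfsg.Agent.H384.Cyc.Tools
import Cfsg.Agent.H19.Cyc.MatMo
import Cfsg.Agent.H326.TwoCyc.JTwo
import Cfsg.Agent.H536.TC.RowCo
import Cfsg.Agent.H536.TC.RowMcL
import Cfsg.Agent.H536.TC.RowHS

/-!
# TEAM TWOCYC (S3507): the bound `Ord` for `J₂`, `HS`, `McL`, `Co₃` (helper384)
-/

set_option autoImplicit false

namespace Cfsg.Agent.H384.Cyc

open Cfsg

universe u v

theorem LH_le : ∀ m ∈ H536.TC.LH, m ≤ 24 := by decide

theorem LM_le : ∀ m ∈ H536.TC.LM, m ≤ 30 := by decide

theorem ord_co3 {T : Type u} [Group T] (hT : Spor.IsoCo3 T) : Ord T := by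
  obtain ⟨e⟩ := id hT
  have hcard : Nat.card T = 495766656000 := Cfsg.Agent.H555.TwoSp.card_co3 hT
  have hfin : Finite T := Nat.finite_of_card_ne_zero (by rw [hcard]; norm_num)
  have hout : Nat.card (Out T) = 1 := by
    rw [← Cfsg.Agent.S2071.result]
    exact Cfsg.Agent.H934.OutB.card_out_congr e
  refine ⟨1 * 144, H19.Cyc.mo_of_out' hout one_pos fun x => ?_, by rw [hcard]; norm_num⟩
  rw [← MulEquiv.orderOf_eq e x]
  exact H536.TC.L1_le _ (H536.TC.orders_co3 _)

theorem ord_mcl {T : Type u} [Group T] (hT : Spor.IsoMcL T) : Ord T := by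
  obtain ⟨e⟩ := id hT
  have hcard : Nat.card T = 898128000 := Cfsg.Agent.H904.McLCent.card_L hT
  have hfin : Finite T := Nat.finite_of_card_ne_zero (by rw [hcard]; norm_num)
  have hout : Nat.card (Out T) = 2 := by
    rw [← Cfsg.Agent.S2073.result]
    exact Cfsg.Agent.H934.OutB.card_out_congr e
  refine ⟨2 * 30, H19.Cyc.mo_of_out' hout two_pos fun x => ?_, by rw [hcard]; norm_num⟩
  rw [← MulEquiv.orderOf_eq e x]
  exact LM_le _ (H536.TC.orders_mcl _)

theorem ord_hs {T : Type u} [Group T] (hT : Spor.IsoHS T) : Ord T := by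
  obtain ⟨e⟩ := id hT
  have hcard : Nat.card T = 44352000 := by
    rw [Nat.card_congr e.toEquiv, Cfsg.Agent.H792.SpU35.card_HS]
  have hfin : Finite T := Nat.finite_of_card_ne_zero (by rw [hcard]; norm_num)
  have hout : Nat.card (Out T) = 2 := by
    rw [← Cfsg.Agent.S2072.result]
    exact Cfsg.Agent.H934.OutB.card_out_congr e
  refine ⟨2 * 24, H19.Cyc.mo_of_out' hout two_pos fun x => ?_, by rw [hcard]; norm_num⟩
  rw [← MulEquiv.orderOf_eq e x]
  exact LH_le _ (H536.TC.orders_hs _)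

theorem ord_j2 {T : Type u} [Group T] [Finite T] (hT : Spor.IsoJ2 T) : Ord T := by
  obtain ⟨z, u, Q, v, ρ, D⟩ := KFacts.J2.Facts.exists_dat_of hT
  have hcard : Nat.card T = 604800 := D.card
  have hx : ∀ x : T, orderOf x ≤ 15 := by
    intro x
    have h1 := H379.J2Orders.orders_mem D x
    simp only [Finset.mem_insert, Finset.mem_singleton] at h1
    omega
  refine ⟨2 * 15, ?_, by rw [hcard]; norm_num⟩
  have hi : (MulAut.conj : T →* MulAut T).range.index ≤ 2 := by
    rcases KFacts.J2.SheetX.index_le D with h | h <;> rw [h]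
    norm_num
  have : (MulAut.conj : T →* MulAut T).range.Normal := by
    constructor
    rintro _ ⟨t, rfl⟩ α
    refine ⟨α t, ?_⟩
    ext g
    simp
  refine mo_of_index _ hi ?_
  rintro _ ⟨t, rfl⟩
  exact (Nat.le_of_dvd (orderOf_pos t) (orderOf_map_dvd _ t)).trans (hx t)

end Cfsg.Agent.H384.Cyc
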