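import Cfsg.Agent.H384.Cyc.Tools
import Cfsg.Agent.H549.TwoCyc.Affine
import Cfsg.Agent.H989.Cyc.Main

/-!
# TEAM TWOCYC (S3507): the frame (helper384)

`rank_le_three` : the theorem for all primitive groups from the theorem for the almost simple groups and the bound
`Ord` for the simple groups (affine type: helper549; all the other types: helper989).
-/

set_option autoImplicit false

namespace Cfsg.Agent.H384.Cyc

open MulAction

universe u v

/-- the theorem for the almost simple groups with socle in `P`, and the order bound -/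
structure Fam (P : ∀ (T : Type u) [Group T], Prop) : Prop where
  row : Row3.{u, v} P
  ord : ∀ (T : Type u) [Group T] [Finite T] [IsSimpleGroup T], ¬ IsMulCommutative T → P T →
    Ord T ∨ Nonempty (T ≃* alternatingGroup (Fin 5))

theorem rank_le_three (H : Fam.{u, v} fun _ _ => True) {G : Type u} {Ω : Type v} [Group G] [Finite G] [Finite Ω]
    [MulAction G Ω] [FaithfulSMul G Ω] (hprim : IsPreprimitive G Ω) {g : G} (hg : Two Ω g) : rk G Ω ≤ 3 := by
  classical
  -- a minimal normal subgroup
  have hnt : Nontrivial G := by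
    by_contra hG
    rw [not_nontrivial_iff_subsingleton] at hG
    have h1 : Subsingleton (orbitRel.Quotient (Subgroup.zpowers g) Ω) := by
      constructor
      intro a b
      induction a using Quotient.inductionOn' with | _ a => ?_
      induction b using Quotient.inductionOn' with | _ b => ?_
      obtain ⟨x, hx⟩ := exists_smul_eq G b a
      apply Quotient.sound'
      rw [orbitRel_apply]
      refine ⟨1, ?_⟩
      show (1 : Subgroup.zpowers g) • b = a
      rw [one_smul, ← hx, Subsingleton.elim x 1, one_smul]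
    have h2 : Nat.card (orbitRel.Quotient (Subgroup.zpowers g) Ω) ≤ 1 := Finite.card_le_one_iff_subsingleton.2 h1
    have h3 : Nat.card (orbitRel.Quotient (Subgroup.zpowers g) Ω) = 2 := hg
    omega
  have hfin : ({K : Subgroup G | K.Normal ∧ K ≠ ⊥}).Finite := Set.toFinite _
  obtain ⟨N, hN⟩ := hfin.exists_minimal ⟨⊤, inferInstance, top_ne_bot⟩
  have hNn : N.Normal := hN.prop.1
  have hN0 : N ≠ ⊥ := hN.prop.2
  have hmin : ∀ M : Subgroup G, M.Normal → M ≤ N → M = ⊥ ∨ M = N := by
    intro M hM hMN
    by_cases h0 : M = ⊥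
    · exact Or.inl h0
    · exact Or.inr (le_antisymm hMN (hN.le_of_le ⟨hM, h0⟩ hMN))
  by_cases hab : ∀ x ∈ N, ∀ y ∈ N, Commute x y
  · refine Cfsg.Agent.H549.TwoCyc.affine N ⟨⟨fun a b => ?_⟩⟩ hN0 g hg
    exact Subtype.ext (hab a a.2 b b.2)
  · rcases Cfsg.Agent.H989.Cyc.nonabelian_type hg N hmin hab (fun S _ hS => H.ord ↥S hS trivial) with h | ⟨h1, h2, h3⟩
    · exact h
    · exact H.row G Ω N g ⟨inferInstance, inferInstance, inferInstance, hprim, hNn, h1, h2, h3, hg⟩ trivial

end Cfsg.Agent.H384.Cyc
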