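import Cfsg.Agent.H384.Cyc.Defs
import Cfsg.Agent.H446.Cyc.PSp
import Cfsg.Agent.S2262
import Cfsg.Agent.S0243
import Cfsg.Agent.H277.ClsPsp

/-!
# TEAM TWOCYC (S3507): `Ord` for `PSL_2(q)`, `q ≥ 7`, and `PSp_6(2)` (helper384)
-/

set_option autoImplicit false

namespace Cfsg.Agent.H384.Cyc

open Matrix Cfsg

universe u

theorem ord_psl2 {F : Type u} [Field F] [Fintype F] (hq : 7 ≤ Fintype.card F) :
    Ord (ProjectiveSpecialLinearGroup (Fin 2) F) := by
  obtain ⟨q, hF⟩ : ∃ q, Fintype.card F = q := ⟨_, rfl⟩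
  rw [hF] at hq
  have h1 := S0243.result hF 2 (by norm_num)
  rw [Fin.prod_univ_two] at h1
  simp only [Fin.val_zero, Fin.val_one, pow_zero, pow_one] at h1
  have hle := (S2262.result (F := F) 2 (by norm_num) (by omega) (by omega) (by omega)).1
  obtain ⟨b, rfl⟩ : ∃ b, q = b + 1 := ⟨q - 1, by omega⟩
  have e1 : (b + 1) ^ 2 - 1 = b * (b + 2) := by
    have : (b + 1) ^ 2 = b * (b + 2) + 1 := by ring
    omega
  have e2 : (b + 1) ^ 2 - (b + 1) = b * (b + 1) := by
    have : (b + 1) ^ 2 = b * (b + 1) + (b + 1) := by ring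
    omega
  have e3 : b + 1 - 1 = b := by omega
  rw [e1, e2, e3] at h1
  refine ⟨b + 2, fun α => ?_, ?_⟩
  · have h3 := hle α
    rw [hF, e1, e3] at h3
    exact Nat.le_of_mul_le_mul_left h3 (by omega)
  · have hg : Nat.gcd 2 b ≤ 2 := Nat.le_of_dvd (by norm_num) (Nat.gcd_dvd_left _ _)
    have h4 : b * (b + 2) * (b * (b + 1)) ≤ 2 * (b * Nat.card (ProjectiveSpecialLinearGroup (Fin 2) F)) := by
      rw [← h1]
      exact Nat.mul_le_mul_right _ hg
    have h5 : (b + 2) * (b * (b + 1)) ≤ 2 * Nat.card (ProjectiveSpecialLinearGroup (Fin 2) F) := by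
      refine Nat.le_of_mul_le_mul_left (c := b) ?_ (show 0 < b by omega)
      calc b * ((b + 2) * (b * (b + 1))) = b * (b + 2) * (b * (b + 1)) := by ring
        _ ≤ _ := h4
        _ = _ := by ring
    have h6 : 4 * (b + 2) < b * (b + 1) := by nlinarith
    nlinarith

theorem ord_psp62 {F : Type u} [Field F] [Fintype F] (hF : Fintype.card F = 2) : Ord (PSp 3 F) := by
  have : Fact (Nat.Prime 2) := ⟨Nat.prime_two⟩
  have hs : IsSimpleGroup (PSp 3 F) := Cfsg.Agent.S0270.result 3 (by norm_num) (by norm_num)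
  have hz : Subgroup.center (PSp 3 F) = ⊥ := H446.Cyc.center_eq_bot H446.Cyc.not_comm_quot
  have hc := Cfsg.Agent.S0814.result (F := F) 2 1 le_rfl (by rw [hF]; norm_num) 3 (by norm_num) (by norm_num)
  have h1 := H277.ClsPsp.card_psp hF (m := 3) (by norm_num)
  norm_num [Finset.prod_range_succ] at h1
  have hc' : Nat.card (MulAut (PSp 3 F)) = 1 * Nat.card (PSp 3 F) := by rw [hc]; norm_num
  have hM : Mo (PSp 3 F) (1 * 16) := H446.Cyc.mo_of_card hz hc' fun g => by
    have h2 := Cfsg.Agent.S2264.result (F := F) 3 (by norm_num) g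
    rw [hF] at h2
    norm_num at h2
    exact h2
  refine ⟨_, hM, ?_⟩
  rw [h1]
  norm_num

end Cfsg.Agent.H384.Cyc
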