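import Cfsg.Agent.H384.Cyc.FamClassical
import Cfsg.Agent.H384.Cyc.FamExc
import Cfsg.Agent.H384.Cyc.OrdTwo
import Cfsg.Agent.H511.Cyc.OrdPsl
import Cfsg.Agent.H229.Cyc.All
import Cfsg.Agent.H872.TD4.Ord

/-!
# TEAM TWOCYC (S3507): the assembly over the classification (helper384)
-/

set_option autoImplicit false

namespace Cfsg.Agent.H384.Cyc

open Cfsg

universe u v

theorem ordPSL : OrdPSL where
  two := fun F _ _ h => ord_psl2 h
  big := fun F _ _ n h3 h32 _ => H511.Cyc.ord_psl h3 h32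

theorem fam_orth (hS : ∀ (X : Type u) [Group X] [Finite X] [IsSimpleGroup X], IsKnownSimple' X) :
    Fam.{u, v} fun T _ => IsPOmegaOdd T ∨ IsPOmegaPlus T ∨ IsPOmegaMinus T := by
  have h1 : Fam.{u, v} fun T _ => IsPOmegaOdd T := Fam.of_sm hS fun T _ _ _ _ h => H229.Cyc.odd_row h
  have h3 : Fam.{u, v} fun T _ => IsPOmegaMinus T := Fam.of_sm hS fun T _ _ _ _ h => H229.Cyc.minus_row h
  have h2 : Fam.{u, v} fun T _ => IsPOmegaPlus T := by
    refine ⟨fun G Ω _ _ T g hT hP => ?_, fun T _ _ _ hna hP => ?_⟩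
    · rcases H229.Cyc.plus_row hP with h | h
      · exact H482.TwoCyc.row_sm G Ω T g hT h
      · exact H482.TwoCyc.row_smC G Ω T g hT h.1
    · rcases H229.Cyc.plus_row hP with h | h
      · exact Or.inl (ord_of_sm hna (hS T) h)
      · exact Or.inl h.2
  exact h1.or (h2.or h3)

/-- all the known simple groups -/
theorem fam_all (hS : ∀ (X : Type u) [Group X] [Finite X] [IsSimpleGroup X], IsKnownSimple' X)
    (hF4 : Fam.{u, v} fun T _ => Lie.IsoF4 T) (hE6 : Fam.{u, v} fun T _ => Lie.Iso2E6 T)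
    (hSp : Fam.{u, v} fun T _ => IsSporadicGroup T) : Fam.{u, v} fun _ _ => True := by
  refine Fam.mono (Q := fun T _ => IsAlternating T ∨ IsPSL T ∨ IsPSp T ∨ IsPSU T ∨
    (IsPOmegaOdd T ∨ IsPOmegaPlus T ∨ IsPOmegaMinus T) ∨ IsExceptionalLieType T ∨ IsSporadicGroup T)
    (fam_alt.or ((fam_psl ordPSL).or ((fam_psp hS fun F _ _ h => ord_psp62 h).or ((fam_psu hS).or ((fam_orth hS).or
      ((fam_exc hS hF4 hE6 fun T _ h => H872.TD4.ord_3D4 h).or hSp)))))) ?_
  intro T _ _ _ hna _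
  rcases hS T with h | h | h | h | h | h | h | h | h | h
  · exfalso
    apply hna
    have h1 : Fact (Nat.card T).Prime := ⟨h⟩
    have h2 : IsCyclic T := isCyclic_of_prime_card (p := Nat.card T) rfl
    exact IsCyclic.isMulCommutative
  all_goals tauto

end Cfsg.Agent.H384.Cyc
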